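import Cfsg.Agent.H155.TI.Defs
import Cfsg.Agent.Schreier.ClassPSL

/-!
# Row `PSL₃(4)` of S4819, S4820: piece f (helper315)

`goalAut : Cfsg.Agent.H155.TI.GoalAut`.
-/

set_option autoImplicit false

namespace Cfsg.Agent.H315.TI

open Matrix
open Cfsg.Agent.ClassicalGeometry.AutPSL.Root Cfsg.Agent.ClassicalGeometry.AutPSL.Auto
  Cfsg.Agent.ClassicalGeometry.AutPSL.Main Cfsg.Agent.Schreier.ClassPSL

/-! ### The field with four elements -/

section field

variable {F : Type*} [Field F] [Fintype F]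

theorem two_eq_zero (h4 : Fintype.card F = 4) : (2 : F) = 0 := by
  have h1 : ((4 : ℕ) : F) = 0 := by rw [← h4]; exact FiniteField.cast_card_eq_zero F
  have h2 : (2 : F) * 2 = 0 := by
    have : ((4 : ℕ) : F) = 2 * 2 := by norm_num
    rw [← this, h1]
  rcases mul_eq_zero.1 h2 with h | h <;> exact h

theorem exists_w (h4 : Fintype.card F = 4) : ∃ w : F, w ≠ 0 ∧ w ≠ 1 := by
  classical
  by_contra hcon
  push Not at hcon
  have h1 : (Finset.univ : Finset F) ⊆ {0, 1} := by
    intro x _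
    rw [Finset.mem_insert, Finset.mem_singleton]
    by_cases hx : x = 0
    · exact Or.inl hx
    · exact Or.inr (hcon x hx)
  have h2 := Finset.card_le_card h1
  rw [Finset.card_univ, h4] at h2
  have h3 : ({0, 1} : Finset F).card ≤ 2 := Finset.card_le_two
  omega

theorem cases4 (h4 : Fintype.card F = 4) {w : F} (h0 : w ≠ 0) (h1 : w ≠ 1) (x : F) :
    x = 0 ∨ x = 1 ∨ x = w ∨ x = w + 1 := by
  classical
  have h2 := two_eq_zero h4
  have hw1 : w + 1 ≠ 0 := by
    intro h
    apply h1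
    linear_combination h - h2
  have hs : ({0, 1, w, w + 1} : Finset F).card = 4 := by
    rw [Finset.card_insert_of_notMem, Finset.card_insert_of_notMem, Finset.card_insert_of_notMem,
      Finset.card_singleton]
    · rw [Finset.mem_singleton]
      intro h
      exact one_ne_zero (left_eq_add.1 h)
    · simp only [Finset.mem_insert, Finset.mem_singleton, not_or]
      refine ⟨Ne.symm h1, fun h => h0 ?_⟩
      exact right_eq_add.1 h
    · simp only [Finset.mem_insert, Finset.mem_singleton, not_or]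
      exact ⟨zero_ne_one, Ne.symm h0, Ne.symm hw1⟩
  have hu : ({0, 1, w, w + 1} : Finset F) = Finset.univ := by
    apply Finset.eq_univ_of_card
    rw [hs, h4]
  have hx : x ∈ ({0, 1, w, w + 1} : Finset F) := by rw [hu]; exact Finset.mem_univ _
  simpa only [Finset.mem_insert, Finset.mem_singleton] using hx

theorem sigma_w (h4 : Fintype.card F = 4) {w : F} (h0 : w ≠ 0) (h1 : w ≠ 1) (σ : F ≃+* F) :
    σ w = w ∨ σ w = w + 1 := by
  rcases cases4 h4 h0 h1 (σ w) with h | h | h | h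
  · exact absurd ((map_eq_zero_iff σ σ.injective).1 h) h0
  · exact absurd ((map_eq_one_iff σ σ.injective).1 h) h1
  · exact Or.inl h
  · exact Or.inr h

theorem sigma_ext (h4 : Fintype.card F = 4) {w : F} (h0 : w ≠ 0) (h1 : w ≠ 1) {σ τ : F ≃+* F}
    (h : σ w = τ w) : σ = τ := by
  ext x
  rcases cases4 h4 h0 h1 x with rfl | rfl | rfl | rfl
  · rw [map_zero, map_zero]
  · rw [map_one, map_one]
  · exact h
  · rw [map_add, map_add, h, map_one, map_one]

theorem sigma_sq (h4 : Fintype.card F = 4) (σ : F ≃+* F) : σ * σ = 1 := by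
  obtain ⟨w, h0, h1⟩ := exists_w h4
  apply sigma_ext h4 h0 h1
  have h2 := two_eq_zero h4
  change σ (σ w) = w
  rcases sigma_w h4 h0 h1 σ with h | h
  · rw [h, h]
  · rw [h, map_add, map_one, h]
    linear_combination h2

theorem card_sigma (h4 : Fintype.card F = 4) : Nat.card (F ≃+* F) ≤ 2 := by
  classical
  obtain ⟨w, h0, h1⟩ := exists_w h4
  have : Function.Injective (fun σ : F ≃+* F => decide (σ w = w)) := by
    intro σ τ h
    apply sigma_ext h4 h0 h1
    have h' : (σ w = w) ↔ (τ w = w) := by simpa using h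
    rcases sigma_w h4 h0 h1 σ with hσ | hσ
    · rw [hσ, h'.1 hσ]
    · rcases sigma_w h4 h0 h1 τ with hτ | hτ
      · rw [hτ, h'.2 hτ]
      · rw [hσ, hτ]
  have h5 := Nat.card_le_card_of_injective _ this
  simpa using h5

end field

/-! ### Types of automorphisms -/

section types

variable {F : Type*} [Field F]

open Classical in
/-- the automorphism of type `b` -/
noncomputable def tp (b : (F ≃+* F) × Bool) : MulAut (Matrix.SpecialLinearGroup (Fin 3) F) :=
  fld b.1 * (if b.2 = true then itr else 1)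

theorem tp_mul_cj (b : (F ≃+* F) × Bool) (A : GL (Fin 3) F) : ∃ A' : GL (Fin 3) F, tp b * cj A = cj A' * tp b := by
  unfold tp
  split_ifs with h
  · refine ⟨Matrix.GeneralLinearGroup.map (b.1 : F →+* F) (ctr A), ?_⟩
    rw [mul_assoc, itr_mul_cj, ← mul_assoc, fld_mul_cj, mul_assoc]
  · exact ⟨_, by rw [mul_one]; exact fld_mul_cj b.1 A⟩

theorem tp_sq {b : (F ≃+* F) × Bool} (hb : b.1 * b.1 = 1) : tp b * tp b = 1 := by
  unfold tp
  split_ifs with h
  · rw [mul_assoc, ← mul_assoc itr, itr_mul_fld, mul_assoc (fld b.1), itr_mul_itr, mul_one, ← map_mul, hb, map_one]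
  · rw [mul_one, ← map_mul, hb, map_one]

theorem exists_type [Finite F] (α : MulAut (Matrix.ProjectiveSpecialLinearGroup (Fin 3) F)) :
    ∃ (A : GL (Fin 3) F) (b : (F ≃+* F) × Bool), α = lift (cj A * tp b) := by
  have := Fintype.ofFinite F
  obtain ⟨p, hp⟩ := CharP.exists F
  have hprime : Fact p.Prime := ⟨CharP.char_is_prime F p⟩
  rcases surj_three p le_rfl α with ⟨A, σ, h⟩ | ⟨A, σ, h⟩
  · refine ⟨A, (σ, false), ?_⟩
    rw [h]
    unfold tp
    rw [if_neg (by simp), mul_one]
  · refine ⟨A, (σ, true), ?_⟩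
    rw [h]
    unfold tp
    rw [if_pos rfl, mul_assoc]

/-- the element of `SL` with the given matrix in `GL` acts by conjugation -/
theorem lift_cj_of_det {A : GL (Fin 3) F} (s : Matrix.SpecialLinearGroup (Fin 3) F)
    (hs : (s : Matrix (Fin 3) (Fin 3) F) = A) : cj A = MulAut.conj s := by
  apply MulEquiv.ext
  intro x
  apply Subtype.ext
  rw [coe_cj, MulAut.conj_apply, Matrix.SpecialLinearGroup.coe_mul, Matrix.SpecialLinearGroup.coe_mul]
  have hinv : (s⁻¹ : Matrix.SpecialLinearGroup (Fin 3) F).1 = ((A⁻¹ : GL (Fin 3) F) : Matrix (Fin 3) (Fin 3) F) := by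
    have h1 : (s * s⁻¹ : Matrix.SpecialLinearGroup (Fin 3) F).1 = 1 := by rw [mul_inv_cancel]; rfl
    have h2 : (A : Matrix (Fin 3) (Fin 3) F) * (s⁻¹ : Matrix.SpecialLinearGroup (Fin 3) F).1 = 1 := by
      rw [← hs]; exact h1
    have h3 : ((A⁻¹ : GL (Fin 3) F) : Matrix (Fin 3) (Fin 3) F) * (A : Matrix (Fin 3) (Fin 3) F) = 1 := by
      rw [← Units.val_mul, inv_mul_cancel, Units.val_one]
    calc (s⁻¹ : Matrix.SpecialLinearGroup (Fin 3) F).1
        = (((A⁻¹ : GL (Fin 3) F) : Matrix (Fin 3) (Fin 3) F) * (A : Matrix (Fin 3) (Fin 3) F)) *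
          (s⁻¹ : Matrix.SpecialLinearGroup (Fin 3) F).1 := by rw [h3, one_mul]
      _ = _ := by rw [mul_assoc, h2, mul_one]
  change (A : Matrix (Fin 3) (Fin 3) F) * x.1 * ((A⁻¹ : GL (Fin 3) F) : Matrix (Fin 3) (Fin 3) F) =
    s.1 * x.1 * (s⁻¹ : Matrix.SpecialLinearGroup (Fin 3) F).1
  rw [hinv, ← hs]

theorem lift_conj (s : Matrix.SpecialLinearGroup (Fin 3) F) : lift (MulAut.conj s) = MulAut.conj (pr s) := by
  apply MulEquiv.ext
  intro x
  obtain ⟨x, rfl⟩ := pr_surjective x
  rw [lift_pr, MulAut.conj_apply, MulAut.conj_apply, ← map_inv, ← map_mul, ← map_mul]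

/-- the cube of a diagonal automorphism is inner -/
theorem cube_inner [Fintype F] (h4 : Fintype.card F = 4) (A : GL (Fin 3) F) :
    ∃ s : Matrix.ProjectiveSpecialLinearGroup (Fin 3) F, lift (cj A) ^ 3 = MulAut.conj s := by
  have hdet : ((A ^ 3 : GL (Fin 3) F) : Matrix (Fin 3) (Fin 3) F).det = 1 := by
    rw [Units.val_pow_eq_pow_val, det_pow]
    have h1 : IsUnit (A : Matrix (Fin 3) (Fin 3) F).det := (Matrix.isUnit_iff_isUnit_det _).1 A.isUnit
    have h2 := FiniteField.pow_card_sub_one_eq_one _ h1.ne_zero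
    rwa [h4] at h2
  let s : Matrix.SpecialLinearGroup (Fin 3) F := ⟨_, hdet⟩
  refine ⟨pr s, ?_⟩
  rw [← map_pow, ← map_pow, lift_cj_of_det (A := A ^ 3) s rfl, lift_conj]

end types

/-! ### The elements `D`, `C` -/

section DC

variable {F : Type*} [Field F]

/-- the diagonal element -/
def Dm (w : F) (hw : w ^ 3 = 1) : Matrix.SpecialLinearGroup (Fin 3) F :=
  ⟨!![1, 0, 0; 0, w, 0; 0, 0, w ^ 2], by
    rw [Matrix.det_fin_three]
    simp
    linear_combination hw⟩

/-- the cyclic permutation -/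
def Cm : Matrix.SpecialLinearGroup (Fin 3) F :=
  ⟨!![0, 1, 0; 0, 0, 1; 1, 0, 0], by
    rw [Matrix.det_fin_three]
    simp⟩

/-- the scalar -/
def Zm (w : F) (hw : w ^ 3 = 1) : Matrix.SpecialLinearGroup (Fin 3) F :=
  ⟨!![w, 0, 0; 0, w, 0; 0, 0, w], by
    rw [Matrix.det_fin_three]
    simp
    linear_combination hw⟩

theorem Zm_central (w : F) (hw : w ^ 3 = 1) (g : Matrix.SpecialLinearGroup (Fin 3) F) :
    Zm w hw * g = g * Zm w hw := by
  apply Subtype.ext
  ext i j
  rw [Matrix.SpecialLinearGroup.coe_mul, Matrix.SpecialLinearGroup.coe_mul]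
  fin_cases i <;> fin_cases j <;> simp [Zm, Matrix.mul_apply, Fin.sum_univ_three, mul_comm]

theorem C_mul_D (w : F) (hw : w ^ 3 = 1) : Cm * Dm w hw = Zm w hw * (Dm w hw * Cm) := by
  apply Subtype.ext
  ext i j
  rw [Matrix.SpecialLinearGroup.coe_mul, Matrix.SpecialLinearGroup.coe_mul, Matrix.SpecialLinearGroup.coe_mul]
  fin_cases i <;> fin_cases j <;> simp [Zm, Cm, Dm, Matrix.mul_apply, Fin.sum_univ_three]
  · ring
  · linear_combination -hw

theorem D_cube (w : F) (hw : w ^ 3 = 1) : Dm w hw ^ 3 = 1 := by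
  apply Subtype.ext
  ext i j
  rw [pow_succ, pow_two, Matrix.SpecialLinearGroup.coe_mul, Matrix.SpecialLinearGroup.coe_mul]
  fin_cases i <;> fin_cases j <;> simp [Dm, Matrix.mul_apply, Fin.sum_univ_three]
  · linear_combination hw
  · linear_combination (w ^ 3 + 1) * hw

theorem C_cube : (Cm : Matrix.SpecialLinearGroup (Fin 3) F) ^ 3 = 1 := by
  apply Subtype.ext
  ext i j
  rw [pow_succ, pow_two, Matrix.SpecialLinearGroup.coe_mul, Matrix.SpecialLinearGroup.coe_mul]
  fin_cases i <;> fin_cases j <;> simp [Cm, Matrix.mul_apply, Fin.sum_univ_three]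

/-- an automorphism of type `field` does not centralize `D` and `C` -/
theorem not_fix [Fintype F] (h4 : Fintype.card F = 4) {w : F} (h0 : w ≠ 0) (h1 : w ≠ 1) (hw : w ^ 3 = 1)
    (B : GL (Fin 3) F) {σ : F ≃+* F} (hσ : σ ≠ 1)
    (hD : lift (cj B * fld σ) (pr (Dm w hw)) = pr (Dm w hw)) (hC : lift (cj B * fld σ) (pr Cm) = pr Cm) : False := by
  apply hσ
  apply sigma_ext h4 h0 h1
  change σ w = w
  set β : MulAut (Matrix.SpecialLinearGroup (Fin 3) F) := cj B * fld σ with hβ
  have hc : ∀ x : Matrix.SpecialLinearGroup (Fin 3) F, lift β (pr x) = pr x →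
      ∃ z ∈ Subgroup.center (Matrix.SpecialLinearGroup (Fin 3) F), β x = x * z := by
    intro x hx
    rw [lift_pr] at hx
    have h2 : pr (x⁻¹ * β x) = 1 := by rw [map_mul, map_inv, hx, inv_mul_cancel]
    exact ⟨_, (pr_eq_one_iff _).1 h2, by group⟩
  obtain ⟨z1, hz1, e1⟩ := hc _ hD
  obtain ⟨z2, hz2, e2⟩ := hc _ hC
  have h3 := congrArg β (C_mul_D w hw)
  rw [map_mul, map_mul, map_mul, e1, e2] at h3
  have hz1' := Subgroup.mem_center_iff.1 hz1
  have hz2' := Subgroup.mem_center_iff.1 hz2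
  have h5 : Cm * z2 * (Dm w hw * z1) = Zm w hw * (Dm w hw * Cm) * (z1 * z2) := by
    rw [← C_mul_D w hw, hz2' Cm, ← hz1' z2]
    have : Cm * Dm w hw * (z2 * z1) = z2 * (Cm * Dm w hw) * z1 := by
      rw [← mul_assoc, hz2' (Cm * Dm w hw)]
    rw [this]
    group
  have h6 : Dm w hw * z1 * (Cm * z2) = Dm w hw * Cm * (z1 * z2) := by
    have : z1 * Cm = Cm * z1 := (hz1' Cm).symm
    rw [mul_assoc (Dm w hw), ← mul_assoc z1, this]
    group
  rw [h5, h6, ← mul_assoc (β (Zm w hw))] at h3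
  have h7 : Zm w hw = β (Zm w hw) := mul_right_cancel (mul_right_cancel h3)
  have h8 : (β (Zm w hw) : Matrix (Fin 3) (Fin 3) F) = (σ w) • (1 : Matrix (Fin 3) (Fin 3) F) := by
    rw [hβ, MulAut.mul_apply, coe_cj]
    have h9 : (fld σ (Zm w hw) : Matrix (Fin 3) (Fin 3) F) = (σ w) • (1 : Matrix (Fin 3) (Fin 3) F) := by
      ext i j
      rw [coe_fld_apply]
      fin_cases i <;> fin_cases j <;> simp [Zm]
    rw [h9, Matrix.mul_smul, Matrix.smul_mul, mul_one, ← Units.val_mul, mul_inv_cancel, Units.val_one]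
  have h10 := congrFun (congrFun h8 0) 0
  rw [← h7] at h10
  simpa [Zm] using h10.symm

end DC

/-! ### GOAL AUT -/

theorem goalAut : Cfsg.Agent.H155.TI.GoalAut := by
  intro X _ _ S _ ⟨F, _, _, h4, ⟨e⟩⟩ hcent h3
  classical
  let φ : X →* MulAut (Matrix.ProjectiveSpecialLinearGroup (Fin 3) F) :=
    (MulAut.congr e).toMonoidHom.comp (MulAut.conjNormal (H := S))
  have hφ : ∀ (g : X) (s : S), φ g (e s) = e (MulAut.conjNormal g s) := by
    intro g s
    change (MulAut.congr e (MulAut.conjNormal g)) (e s) = _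
    simp [MulAut.congr]
  have hφS : ∀ s : S, φ (s : X) = MulAut.conj (e s) := by
    intro s
    apply MulEquiv.ext
    intro x
    obtain ⟨t, rfl⟩ := e.surjective x
    rw [hφ, MulAut.conj_apply, ← map_inv, ← map_mul, ← map_mul]
    congr 1
  have hinj : Function.Injective φ := by
    rw [injective_iff_map_eq_one]
    intro g hg
    rw [← Subgroup.mem_bot, ← hcent, Subgroup.mem_centralizer_iff]
    intro s hs
    have h1 := hφ g ⟨s, hs⟩
    rw [hg, MulAut.one_apply] at h1
    have h2 := congrArg Subtype.val (e.injective h1)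
    rw [MulAut.conjNormal_apply] at h2
    change s = g * s * g⁻¹ at h2
    rw [eq_mul_inv_iff_mul_eq] at h2
    exact h2
  -- diagonal elements are in `S`
  have hdiag : ∀ (g : X) (A : GL (Fin 3) F), φ g = lift (cj A) → g ∈ S := by
    intro g A hg
    obtain ⟨s, hs⟩ := cube_inner h4 A
    have h1 : g ^ 3 = ((e.symm s : S) : X) := by
      apply hinj
      rw [map_pow, hg, hs, hφS, MulEquiv.apply_symm_apply]
    have h2 : (QuotientGroup.mk' S g) ^ 3 = 1 := by
      rw [← map_pow, h1]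
      exact (QuotientGroup.eq_one_iff _).2 (e.symm s).2
    have h5 : (QuotientGroup.mk' S g) = 1 := by
      rw [← orderOf_eq_one_iff]
      have h6 : orderOf (QuotientGroup.mk' S g) ∣ 3 := orderOf_dvd_of_pow_eq_one h2
      have h7 : orderOf (QuotientGroup.mk' S g) ∣ Nat.card (X ⧸ S) := orderOf_dvd_natCard _
      rcases (Nat.dvd_prime Nat.prime_three).1 h6 with h8 | h8
      · exact h8
      · rw [h8] at h7
        exact absurd h7 h3
    exact (QuotientGroup.eq_one_iff _).1 h5
  have hsq : ∀ g : X, g * g ∈ S := by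
    intro g
    obtain ⟨A, b, hg⟩ := exists_type (φ g)
    obtain ⟨A', hA'⟩ := tp_mul_cj b A
    apply hdiag _ (A * A')
    rw [map_mul, hg, ← map_mul, mul_assoc, ← mul_assoc (tp b), hA', mul_assoc (cj A'), tp_sq (sigma_sq h4 _), mul_one,
      map_mul cj]
  have hsame : ∀ (g g' : X) (A A' : GL (Fin 3) F) (b : (F ≃+* F) × Bool), φ g = lift (cj A * tp b) →
      φ g' = lift (cj A' * tp b) → g⁻¹ * g' ∈ S := by
    intro g g' A A' b hg hg'
    have h1 : g' * g⁻¹ ∈ S := by
      apply hdiag _ (A' * A⁻¹)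
      rw [map_mul, map_inv, hg, hg', ← map_inv, ← map_mul, _root_.mul_inv_rev, mul_assoc, ← mul_assoc (tp b),
        mul_inv_cancel, one_mul, map_mul cj, map_inv cj]
    have h2 := (inferInstance : S.Normal).conj_mem _ h1 g⁻¹
    have h5 : g⁻¹ * (g' * g⁻¹) * g⁻¹⁻¹ = g⁻¹ * g' := by group
    rwa [h5] at h2
  -- the type map
  have ht : ∀ q : X ⧸ S, ∃ b : (F ≃+* F) × Bool, ∃ A : GL (Fin 3) F, φ q.out = lift (cj A * tp b) := by
    intro q
    obtain ⟨A, b, h⟩ := exists_type (φ q.out)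
    exact ⟨b, A, h⟩
  choose f Af hf using ht
  have hfinj : Function.Injective f := by
    intro q q' h
    have h1 := hf q
    rw [h] at h1
    have h2 := hsame _ _ _ _ _ h1 (hf q')
    rw [← QuotientGroup.out_eq' q, ← QuotientGroup.out_eq' q']
    exact QuotientGroup.eq.2 h2
  have hfinF : Finite (F ≃+* F) := by
    exact Finite.of_injective (fun σ : F ≃+* F => (σ : F → F)) DFunLike.coe_injective
  have hcardT : Nat.card ((F ≃+* F) × Bool) ≤ 4 := by
    rw [Nat.card_prod]
    have := card_sigma (F := F) h4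
    have h5 : Nat.card Bool = 2 := by simp
    rw [h5]
    omega
  have hle : S.index ≤ 4 := (Nat.card_le_card_of_injective f hfinj).trans hcardT
  have hne : S.index ≠ 0 := Subgroup.index_ne_zero_of_finite
  have h3' : S.index ≠ 3 := by
    rintro h
    rw [h] at h3
    exact h3 (dvd_refl 3)
  have hcase : S.index = 1 ∨ S.index = 2 ∨ S.index = 4 := by omega
  rcases hcase with h | h | hidx
  · exact Or.inl h
  · exact Or.inr (Or.inl h)
  refine Or.inr (Or.inr ⟨hidx, hsq, ?_⟩)
  -- index 4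
  have hcardT' : Nat.card (X ⧸ S) = Nat.card ((F ≃+* F) × Bool) := by
    apply le_antisymm (Nat.card_le_card_of_injective f hfinj)
    change _ ≤ S.index
    rw [hidx]
    exact hcardT
  have hfbij : Function.Bijective f := (Nat.bijective_iff_injective_and_card f).2 ⟨hfinj, hcardT'⟩
  have hσ : ∃ σ : F ≃+* F, σ ≠ 1 := by
    by_contra hcon
    push Not at hcon
    have h1 : Nat.card (F ≃+* F) ≤ 1 := by
      have : Subsingleton (F ≃+* F) := ⟨fun a b => by rw [hcon a, hcon b]⟩
      exact Finite.card_le_one_iff_subsingleton.2 this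
    have h2 : Nat.card (X ⧸ S) = 4 := hidx
    rw [hcardT', Nat.card_prod] at h2
    have h5 : Nat.card Bool = 2 := by simp
    rw [h5] at h2
    omega
  obtain ⟨σ, hσ⟩ := hσ
  obtain ⟨q, hq⟩ := hfbij.2 (σ, false)
  have hg0 := hf q
  rw [hq] at hg0
  have htp : tp (σ, false) = fld σ := by
    unfold tp
    rw [if_neg (by simp), mul_one]
  rw [htp] at hg0
  intro Q
  refine ⟨q.out, ?_⟩
  by_contra hcon
  push Not at hcon
  obtain ⟨s, hs, hcon⟩ := hcon
  obtain ⟨w, h0, h1⟩ := exists_w h4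
  have hw : w ^ 3 = 1 := by
    have := FiniteField.pow_card_sub_one_eq_one w h0
    rwa [h4] at this
  -- the 3-subgroup
  set a : X := ((e.symm (pr (Dm w hw)) : S) : X) with ha
  set b : X := ((e.symm (pr Cm) : S) : X) with hb
  have hab : a * b = b * a := by
    have hz : pr (Zm w hw) = 1 := (pr_eq_one_iff (Zm w hw)).2 (Subgroup.mem_center_iff.2 fun g => (Zm_central w hw g).symm)
    have hcd : pr Cm * pr (Dm w hw) = pr (Dm w hw) * pr Cm := by
      rw [← map_mul pr Cm, C_mul_D w hw, map_mul pr (Zm w hw), hz, one_mul, map_mul]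
    rw [ha, hb, ← Subgroup.coe_mul, ← Subgroup.coe_mul, ← map_mul e.symm, ← map_mul e.symm, hcd]
  have ha3 : a ^ 3 = 1 := by
    rw [ha, ← Subgroup.coe_pow, ← map_pow, ← map_pow, D_cube, map_one, map_one, Subgroup.coe_one]
  have hb3 : b ^ 3 = 1 := by
    rw [hb, ← Subgroup.coe_pow, ← map_pow, ← map_pow, C_cube, map_one, map_one, Subgroup.coe_one]
  have : Fact (Nat.Prime 3) := ⟨Nat.prime_three⟩
  have hpg : ∀ y : X, y ^ 3 = 1 → IsPGroup 3 (Subgroup.zpowers y) := by
    intro y hy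
    rw [IsPGroup.iff_card]
    have h5 : Nat.card (Subgroup.zpowers y) ∣ 3 := by
      rw [Nat.card_zpowers]
      exact orderOf_dvd_of_pow_eq_one hy
    rcases (Nat.dvd_prime Nat.prime_three).1 h5 with h6 | h6
    · exact ⟨0, by rw [h6, pow_zero]⟩
    · exact ⟨1, by rw [h6, pow_one]⟩
  have hpab : IsPGroup 3 (Subgroup.zpowers a ⊔ Subgroup.zpowers b : Subgroup X) := by
    refine IsPGroup.to_sup_of_normal_right' (hpg a ha3) (hpg b hb3) ?_
    rw [Subgroup.zpowers_le, Subgroup.mem_normalizer_iff]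
    intro y
    have hcm : ∀ k : ℤ, a * b ^ k * a⁻¹ = b ^ k := by
      intro k
      have : Commute a (b ^ k) := (show Commute a b from hab).zpow_right k
      rw [this.eq, mul_inv_cancel_right]
    constructor
    · intro hy
      obtain ⟨k, rfl⟩ := Subgroup.mem_zpowers_iff.1 hy
      rw [hcm]
      exact hy
    · intro hy
      obtain ⟨k, hk⟩ := Subgroup.mem_zpowers_iff.1 hy
      have h5 : y = a⁻¹ * (b ^ k) * a := by rw [hk]; group
      have h6 : y = b ^ k := by
        rw [h5]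
        nth_rewrite 1 [← hcm k]
        group
      rw [h6]
      exact Subgroup.mem_zpowers_iff.2 ⟨k, rfl⟩
  obtain ⟨R, hR⟩ := hpab.exists_le_sylow
  obtain ⟨x, hx⟩ := MulAction.exists_smul_eq X R Q
  have hmem : ∀ y ∈ (R : Subgroup X), x * y * x⁻¹ ∈ (Q : Subgroup X) := by
    intro y hy
    rw [← hx]
    exact ⟨y, hy, rfl⟩
  have haR : a ∈ (R : Subgroup X) := hR (Subgroup.mem_sup_left (Subgroup.mem_zpowers a))
  have hbR : b ∈ (R : Subgroup X) := hR (Subgroup.mem_sup_right (Subgroup.mem_zpowers b))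
  set g : X := q.out with hg
  -- `x⁻¹ (s g) x = s' g`
  set s' : X := x⁻¹ * (s * g) * x * g⁻¹ with hs'
  have hs'S : s' ∈ S := by
    have h5 : QuotientGroup.mk' S s' = 1 := by
      have hcomm : ∀ u v : X ⧸ S, u * v = v * u := by
        have hsq' : ∀ u : X ⧸ S, u * u = 1 := by
          intro u
          obtain ⟨u, rfl⟩ := QuotientGroup.mk'_surjective S u
          rw [← map_mul]
          exact (QuotientGroup.eq_one_iff _).2 (hsq u)
        intro u v
        have h6 : ∀ u : X ⧸ S, u⁻¹ = u := fun u => inv_eq_of_mul_eq_one_left (hsq' u)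
        rw [← h6 (u * v), _root_.mul_inv_rev, h6, h6]
      have hs1 : QuotientGroup.mk' S s = 1 := (QuotientGroup.eq_one_iff _).2 hs
      rw [hs', map_mul, map_mul, map_mul, map_mul, hs1, one_mul, map_inv, map_inv,
        hcomm (QuotientGroup.mk' S x)⁻¹ (QuotientGroup.mk' S g), mul_assoc (QuotientGroup.mk' S g), inv_mul_cancel, mul_one,
        mul_inv_cancel]
    exact (QuotientGroup.eq_one_iff _).1 h5
  have hcen : ∀ y ∈ (R : Subgroup X), s' * g * y * (s' * g)⁻¹ = y := by
    intro y hy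
    have h5 := hcon _ (hmem y hy)
    have h6 : s' * g = x⁻¹ * (s * g) * x := by rw [hs']; group
    rw [h6]
    have h7 : x⁻¹ * (s * g) * x * y * (x⁻¹ * (s * g) * x)⁻¹ =
        x⁻¹ * (s * g * (x * y * x⁻¹)) * (s * g)⁻¹ * x := by group
    rw [h7, h5]
    group
  obtain ⟨v, hv⟩ := pr_surjective (e ⟨s', hs'S⟩)
  let vG : GL (Fin 3) F := Matrix.SpecialLinearGroup.toGL v
  have hφg : φ (s' * g) = lift (cj (vG * Af q) * fld σ) := by
    rw [map_mul, hg0]
    have h5 : φ s' = lift (cj vG) := by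
      rw [lift_cj_of_det (A := vG) v rfl, lift_conj, hv]
      exact hφS ⟨s', hs'S⟩
    rw [h5, ← map_mul, map_mul cj, mul_assoc]
  have hfix : ∀ t : S, (t : X) ∈ (R : Subgroup X) → φ (s' * g) (e t) = e t := by
    intro t ht
    rw [hφ]
    congr 1
    apply Subtype.ext
    rw [MulAut.conjNormal_apply]
    exact hcen _ ht
  have hD := hfix (e.symm (pr (Dm w hw))) haR
  have hC := hfix (e.symm (pr Cm)) hbR
  rw [MulEquiv.apply_symm_apply, hφg] at hD hC
  exact not_fix h4 h0 h1 hw _ hσ hD hC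

end Cfsg.Agent.H315.TI
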